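/-
Project L10 (S3320): finite facts on the Sylow group `T0` of order 64.
-/
import Cfsg.Agent.L10.DP2

set_option autoImplicit false

namespace CL.L10.R

open Cfsg Subgroup CL.Cls CL.Grp CL.Even QuadraticMap

namespace FA

abbrev I := Fin 64

@[reducible] def ftI : Fintype I := ⟨⟨((List.range 64).map (Fin.ofNat 64) : List I), by decide⟩, by decide⟩
noncomputable def allB (p : ℕ → Bool) (n : ℕ) : Bool := Nat.rec true (fun k ih => p k && ih) n
theorem allB_iff (p : ℕ → Bool) (n : ℕ) : allB p n = true ↔ ∀ k < n, p k = true := by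
  induction n with
  | zero => simp [allB]
  | succ n ih => exact Bool.and_eq_true_iff.trans (by rw [Nat.forall_lt_succ_right, and_comm]; exact and_congr_left' ih)
theorem all_iff (p : I → Prop) [DecidablePred p] : allB (fun n => decide (p (Fin.ofNat 64 n))) 64 = true ↔ ∀ i, p i :=
  (allB_iff _ _).trans ⟨fun h i => by simpa using h i.1 i.2, fun h k _ => decide_eq_true (h _)⟩
@[reducible] noncomputable def dAll (p : I → Prop) [DecidablePred p] : Decidable (∀ i, p i) :=
  decidable_of_iff _ (all_iff p)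
@[reducible] noncomputable def dEx (p : I → Prop) [DecidablePred p] : Decidable (∃ i, p i) :=
  decidable_of_iff (allB (fun n => decide (¬ p (Fin.ofNat 64 n))) 64 = false) (by
    rw [← Bool.not_eq_true, all_iff fun i => ¬ p i]; simp)

attribute [local instance 2000] ftI dAll dEx

def tA : ℕ := 0x2ca20930d3ce4114d25d6515f7cfbfebbe789a79648608a3a29aeabeeb2dcf2c31d35df679f75c65869b144187083040f3dfbfefae784504d259751528b20934c3ce9e69648218a37de75c61969bcb3c31d74df6a68aeabafb2d1051870c2040a68aabbeeb2d4504935d65157de71d65869b9e69258608a328b24830d3cecb3c70d35df6f3dffeebbe781051c608304079f71d61969b411493597515a29aabbafb2d9a79258218a3f7cffeefae78cf2c70d74df62ca24834c3ce1441c60c204024828b30d3cec70cb3d35df671d7de65869b9259e68608a3aaba68beeb2d4934505d6515ffef3debbe781c610508304075c7de61969bc31cb3d74df620928b34c3ce9649e68218a3fbff3defae784d2450597515aeaa68bafb2d1871050c2040aeaa29beeb2dc31cf2d35df6fbff7cebbe789649a78608a32092ca30d3ce4d24115d651575c79f65869b187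144083040ffef7cefae78c70cf2d74df6aaba29bafb2d9259a78218a371d79f61969b4934115975152482ca34c3ce1c61440c204024828b38f34c450493597554fbff7ce78ebb9a79648608a3aaba68b6cbafcb3c70d74db775c79f69b658144187083040ffef7ce39ebb4114935d655420928b3ce34c9e69648218a371d79f6da658cf2c70d35db7aeaa68b2dbaf1051870c2040aeaa29b6cbaf4114d259755471d7de69b6589e69258608a32092ca38f34ccf2c31d74db7ffef3de78ebb1051c608304075c7de6da6584504d25d6554aaba29b2dbaf9a79258218a3fbff3de39ebbcb3c31d35db72482ca3ce34c1441c60c20402ca20938f34cc31cf2d74db77de71d69b6589259e68608a3a29aeab6cbaf4d2411597554f3dffee78ebb1c610508304079f71d6da658c70cf2d35db728b2093ce34c9649e68218a3f7cffee39ebb4934115d6554a68aeab2dbaf1871050c2040a68aabb6cbafc70cb3d74db7f7cfbfe78ebb9649a78608a328b24838f34c49345059755479f75c69b658187144083040f3dfbfe39ebbc31cb3d35db7a29aabb2dbaf9259a78218a37de75c6da6584d24505d65542ca2483ce34c1c61440c20403ce30d2092ca4114d25d6515e39efaffef3d9e69258218e2b6cbafaaba68cb3c70d74db769b65875c79f14418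7083040e78efafbff3d4504d259751538f30d2482ca9a79258608e26da65871d79fcf2c70d35db7b2dbafaeaa681051870c2040b2dbeeaaba684504935d65156da61975c79f9a79648218e238f34c2092cacf2c31d74db7e78ebbffef3d1051c608304069b61971d79f411493597515b6cbeeaeaa689e69648608e2e39ebbfbff3dcb3c31d35db73ce34c2482ca1441c60c204034c38f2092cac31cf2d74db76196da75c79f9649a78218e2beeb2daaba684934505d6515ebbe78ffef3d1c61050830406586da71d79fc70cf2d35db730d38f2482ca9259a78608e2efae78fbff3d4d2450597515bafb2daeaa681871050c2040bafb6caaba68c70cb3d74db7efae39ffef3d9259e68218e230d3ce2092ca4d24115d651565869b75c79f187144083040ebbe39fbff3dc31cb3d35db7beeb6caeaa689649e68608e261969b71d79f49341159751534c3ce2482ca1c61440c204034c38f28b248450493597554efae39f3dffe9e69258218e2beeb2da29aeacf2c31d35df665869b79f75c144187083040ebbe39f7cffe4114935d655430d38f2ca2489a79258608e261969b7de75ccb3c31d74df6bafb2da68aea1051870c2040bafb6ca29aea4114d25975546196da79f75c9a79648218e230d3ce28b248cb3c70d35df6ebbe78f3dffe1051c60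830406586da7de75c4504d25d6554beeb6ca68aea9e69648608e2efae78f7cffecf2c70d74df634c3ce2ca2481441c60c20403ce30d28b248c70cb3d35df66da61979f75c9649a78218e2b6cbafa29aea4d2411597554e78ebbf3dffe1c610508304069b6197de75cc31cb3d74df638f30d2ca2489259a78608e2e39ebbf7cffe4934115d6554b2dbafa68aea1871050c2040b2dbeea29aeac31cf2d35df6e39efaf3dffe9259e68218e238f34c28b24849345059755469b65879f75c187144083040e78efaf7cffec70cf2d74df6b6cbeea68aea9649e68608e26da6587de75c4d24505d65543ce34c2ca2481c61440c20402ca20930d3ce5155d64d2411efae39f3dffe9259e68e2821aaba68b6cbafd74db7cb3c7069b65875c79f144187083040ebbe39f7cffe5545d649341128b20934c3ce9649e68a38216da65871d79fd35db7cf2c70aeaa68b2dbaf1051870c2040aeaa29b6cbaf5545974d24116da61975c79f9649a78e282128b24830d3ced35df6cb3c70ebbe78f3dffe1051c608304069b61971d79f515597493411aaba29b2dbaf9259a78a3821efae78f7cffed74df6cf2c702ca24834c3ce1441c60c204024828b30d3cedf6d35cb3c706196da75c79f9a79648e2821a29aeab6cbaf5975544d2411e78ebbf3dffe1c6105083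0406586da71d79fdb7d35cf2c7020928b34c3ce9e69648a3821e39ebbf7cffe5d6554493411a68aeab2dbaf1871050c2040a68aabb6cbafdb7d74cb3c70e39efaf3dffe9e69258e28212092ca30d3ce5d65154d241165869b75c79f187144083040e78efaf7cffedf6d74cf2c70a29aabb2dbaf9a79258a382161969b71d79f5975154934112482ca34c3ce1c61440c204024828b38f34c554597493450e39efaffef3d9259e68e2821a29aeabeeb2dd35df6cf2c3165869b79f75c144187083040e78efafbff3d5155974d245020928b3ce34c9649e68a382161969b7de75cd74df6cb3c31a68aeabafb2d1051870c2040a68aabbeeb2d5155d64934506196da79f75c9649a78e28212092ca38f34cd74db7cf2c31e78ebbffef3d1051c60830406586da7de75c5545d64d2450a29aabbafb2d9259a78a3821e39ebbfbff3dd35db7cb3c312482ca3ce34c1441c60c20402ca20938f34cdb7d74cf2c316da61979f75c9a79648e2821aaba68beeb2d5d6515493450ebbe78ffef3d1c610508304069b6197de75cdf6d74cb3c3128b2093ce34c9e69648a3821efae78fbff3d5975154d2450aeaa68bafb2d1871050c2040aeaa29beeb2ddf6d35cf2c31efae39ffef3d9e69258e282128b24838f34c59755449345069b65879f75c18714408304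0ebbe39fbff3ddb7d35cb3c31aaba29bafb2d9a79258a38216da6587de75c5d65544d24502ca2483ce34c1c61440c20403ce30d2092ca5155d64d2411fbff7ce78ebb9649a78a3860beeb2da29aead35df6cf2c3179f75c65869b144187083040ffef7ce39ebb5545d649341138f30d2482ca9259a78e28607de75c61969bd74df6cb3c31bafb2da68aea1051870c2040bafb6ca29aea5545974d24117de71d65869b9259e68a386038f34c2092cad74db7cf2c31ffef3de78ebb1051c608304079f71d61969b515597493411beeb6ca68aea9649e68e2860fbff3de39ebbd35db7cb3c313ce34c2482ca1441c60c204034c38f2092cadb7d74cf2c3171d7de65869b9e69258a3860b6cbafa29aea5975544d2411f3dffee78ebb1c610508304075c7de61969bdf6d74cb3c3130d38f2482ca9a79258e2860f7cffee39ebb5d6554493411b2dbafa68aea1871050c2040b2dbeea29aeadf6d35cf2c31f7cfbfe78ebb9a79648a386030d3ce2092ca5d65154d241175c79f65869b187144083040f3dfbfe39ebbdb7d35cb3c31b6cbeea68aea9e69648e286071d79f61969b59751549341134c3ce2482ca1c61440c204034c38f28b248554597493450f7cfbfebbe789649a78a3860b6cbafaaba68d74db7cb3c7075c79f69b658144187083040f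3dfbfefae785155974d245030d38f2ca2489259a78e286071d79f6da658d35db7cf2c70b2dbafaeaa681051870c2040b2dbeeaaba685155d649345071d7de69b6589259e68a386030d3ce28b248d35df6cb3c70f3dffeebbe781051c608304075c7de6da6585545d64d2450b6cbeeaeaa689649e68e2860f7cffeefae78d74df6cf2c7034c3ce2ca2481441c60c20403ce30d28b248df6d35cb3c707de71d69b6589e69258a3860beeb2daaba685d6515493450ffef3debbe781c610508304079f71d6da658db7d35cf2c7038f30d2ca2489a79258e2860fbff3defae785975154d2450bafb2daeaa681871050c2040bafb6caaba68db7d74cb3c70fbff7cebbe789a79648a386038f34c28b24859755449345079f75c69b658187144083040ffef7cefae78df6d74cf2c70beeb6caeaa689e69648e28607de75c6da6585d65544d24503ce34c2ca2481c61440c2040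
def tS : ℕ := 0x10000000000000001000000000000000100000000000000010000000000000001000000000000000100000000000000010000000000000001000000000800000100000000080000010000000000080001000000000008000100000000000008010000000000000801000000000000000900000000000000090000000000000001000000000000000100000000000000010000000000000001000000000000000100000000000000010000000000000001000000000000000100401000040000014000001004000001400010000004000100400010000400010000000000001441000000000000441100000000000050050000000000000055000000000000000100000000000000010000000000000001000000000000000100000000000000010000000000000001000000000000000100000000000000010000000002000001000000000200000100000000000200010000000000020001000000000000020100000000000002010000000000000003000000000000000300000000000000010000000000000001000000000000000100000000000000010000000000000001000000000000000100000000000000010000000000000001000101000100000101000001010000010100010000010001000100010001000141410000000041410000111100001111000000000f0f0f0f414111110f0f5f5f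

def row (t i : ℕ) : ℕ := Nat.mod (Nat.shiftRight t (Nat.mul 384 i)) (Nat.pow 2 384)
def act (i l : I) : I := Fin.ofNat 64 (Nat.shiftRight (row tA i.1) (Nat.mul 6 l.1))
def xr (i l : I) : I := ⟨Nat.xor i.1 l.1, Nat.xor_lt_two_pow (n := 6) i.2 l.2⟩
def bs : List I := [1, 2, 4, 8, 16, 32]
/-- the elements of order at most two -/
def iv (i : I) : Prop := Nat.testBit 0x414111110f0f5f5f i.1 = true
instance : DecidablePred iv := fun _ => instDecidableEqBool _ _
def bt (n : I) (i : ℕ) : F := if n.1.testBit i then 1 else 0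
def dB (n : I) : Fin 6 → F := fun i => bt n i.1
def dV (n : I) : V6 := Sum.elim (fun i => bt n i.1) fun i => bt n (3 + i.1)
def qq (v : V6) : F := v (.inl 0) * v (.inr 0) + v (.inl 1) * v (.inr 1) + v (.inl 2) * v (.inr 2)

theorem dV_bij : Function.Bijective dV := (Fintype.bijective_iff_injective_and_card _).2
  ⟨Function.LeftInverse.injective (g := fun v => Fin.ofNat 64 ((v (.inl 0)).val + 2 * (v (.inl 1)).val +
    4 * (v (.inl 2)).val + 8 * (v (.inr 0)).val + 16 * (v (.inr 1)).val + 32 * (v (.inr 2)).val))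
    (by unfold Function.LeftInverse; decide +kernel), by decide +kernel⟩
theorem dB_bij : Function.Bijective dB := (Fintype.bijective_iff_injective_and_card _).2
  ⟨Function.LeftInverse.injective (g := fun v => Fin.ofNat 64 ((v 0).val + 2 * (v 1).val +
    4 * (v 2).val + 8 * (v 3).val + 16 * (v 4).val + 32 * (v 5).val))
    (by unfold Function.LeftInverse; decide +kernel), by decide +kernel⟩
theorem xr_eq (i l : I) : dV i + dV l = dV (xr i l) := by
  have : ∀ k, bt i k + bt l k = bt (xr i l) k := fun k => by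
    have : (xr i l).1.testBit k = (i.1.testBit k ^^ l.1.testBit k) := Nat.testBit_xor _ _ _
    unfold bt
    rw [this]
    cases i.1.testBit k <;> cases l.1.testBit k <;> rfl
  ext (k | k) <;> exact this _
theorem allV {p : V6 → Prop} (h : ∀ l, p (dV l)) (v : V6) : p v := by
  obtain ⟨l, rfl⟩ := dV_bij.2 v; exact h l
theorem mLE : ∀ l, dV l ∈ LE ↔ l < 8 := by unfold LE; decide +kernel
theorem mLE' : ∀ l, dV l ∈ LE' ↔ l.1 % 32 < 4 := by unfold LE'; decide +kernel
theorem mLF : ∀ l, dV l ∈ LF ↔ l < 4 ∨ 36 ≤ l ∧ l < 40 := by unfold LF; decide +kernel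
theorem mL0 : ∀ l, dV l ∈ L0 ↔ l < 4 := by unfold L0 LE LE'; decide +kernel
theorem d0 : dV 0 = 0 := by decide
theorem e0 : ev 0 = dV 1 := by decide
theorem e1 : ev 1 = dV 2 := by decide
theorem e2 : ev 2 = dV 4 := by decide

def tl (b : Fin 6 → F) : V6 →ₗ[F] V6 where
  toFun := t0f b
  map_add' u v := by ext (i | i) <;> fin_cases i <;> simp [t0f, mk6] <;> ring
  map_smul' c v := by ext (i | i) <;> fin_cases i <;> simp [t0f, mk6] <;> ring

theorem act_eq (i l : I) : t0f (dB i) (dV l) = dV (act i l) := by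
  have b : ∀ i, ∀ l ∈ 0 :: bs, t0f (dB i) (dV l) = dV (act i l) := by decide +kernel
  have c : ∀ l, l ∈ 0 :: bs ∨ ∃ e ∈ bs, xr l e < l ∧ l = xr (xr l e) e ∧
    ∀ i, act i l = xr (act i (xr l e)) (act i e) := by decide +kernel
  induction l using WellFoundedLT.induction with
  | _ l ih =>
    rcases c l with h | ⟨e, he, h1, h2, h3⟩
    · exact b i l h
    · rw [h3, ← xr_eq, ← ih _ h1, ← b i e (List.mem_cons_of_mem _ he)]
      conv_lhs => rw [h2, ← xr_eq]
      exact (tl (dB i)).map_add _ _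

theorem act_inj : ∀ i l, act i l = 0 → l = 0 := by decide +kernel
theorem t0f_q (b : Fin 6 → F) (v : V6) : q6 (t0f b v) = q6 v := by
  rw [q6_eq, q6_eq]; simp [t0f, mk6]; grind

noncomputable def T (i : I) : O6 := ⟨LinearEquiv.ofInjectiveEndo (tl (dB i)) ((injective_iff_map_eq_zero _).2
  (allV fun l h => by rw [act_inj i l (dV_bij.1 ((act_eq i l).symm.trans (h.trans d0.symm))), d0])),
  t0f_q _⟩

theorem T_app (i l : I) : (T i).1 (dV l) = dV (act i l) := act_eq i l
theorem T_fix {i l : I} : (T i).1 (dV l) = dV l ↔ act i l = l := by rw [T_app, dV_bij.1.eq_iff]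

theorem ext6 {k k' : O6} (h : ∀ l ∈ bs, k.1 (dV l) = k'.1 (dV l)) : k = k' := by
  have : (k.1 : V6 →ₗ[F] V6) = k'.1 := (Pi.basisFun F _).ext fun j => by
    have : ∀ j : Fin 3 ⊕ Fin 3, ∃ l ∈ bs, Pi.single j 1 = dV l := by
      decide +kernel
    obtain ⟨l, hl, e⟩ := this j
    rw [Pi.basisFun_apply, e]; exact h l hl
  exact OG.ext' fun v => LinearMap.congr_fun this v

theorem T_zero : T 0 = 1 := ext6 fun l hl => T_fix.2 (by revert l; decide +kernel)
theorem T_inj : Function.Injective T := fun i j h => by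
  have : ∀ i j, act i 2 = act j 2 → act i 4 = act j 4 → act i 16 = act j 16 → act i 32 = act j 32 → i = j := by
    decide +kernel
  have k : ∀ l, act i l = act j l := fun l => dV_bij.1 (by rw [← T_app, ← T_app, h])
  exact this i j (k _) (k _) (k _) (k _)
theorem T_one {i : I} : T i = 1 ↔ i = 0 := by rw [← T_zero, T_inj.eq_iff]
theorem T_comm {i j : I} : T i * T j = T j * T i ↔ ∀ l ∈ bs, act i (act j l) = act j (act i l) :=
  ⟨fun h l _ => dV_bij.1 (by rw [← T_app, ← T_app, ← T_app, ← T_app, ← OG.mul_app, h, OG.mul_app]),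
    fun h => ext6 fun l hl => by rw [OG.mul_app, OG.mul_app, T_app, T_app, T_app, T_app, h l hl]⟩
theorem T_sq {i : I} : T i * T i = 1 ↔ iv i := by
  have : ∀ i, (∀ l ∈ bs, act i (act i l) = l) ↔ iv i := by decide +kernel
  exact Iff.trans ⟨fun h l _ => dV_bij.1 (by rw [← T_app, ← T_app, ← OG.mul_app, h, OG.one_app]),
    fun h => ext6 fun l hl => by rw [OG.mul_app, T_app, T_app, h l hl, OG.one_app]⟩ (this i)

theorem enumN : ∀ u1 < 4, ∀ u2 < 8, ∀ w2, b6 (dV 1) (dV w2) = 0 ∧ b6 (dV u1) (dV w2) = 0 ∧ b6 (dV u2) (dV w2) = 1 ∧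
    qq (dV w2) = 0 → ∀ w1, b6 (dV 1) (dV w1) = 0 ∧ b6 (dV u1) (dV w1) = 1 ∧ b6 (dV u2) (dV w1) = 0 ∧
    b6 (dV w2) (dV w1) = 0 ∧ qq (dV w1) = 0 → ∀ w0, b6 (dV 1) (dV w0) = 1 ∧ b6 (dV u1) (dV w0) = 0 ∧
    b6 (dV u2) (dV w0) = 0 ∧ b6 (dV w2) (dV w0) = 0 ∧ b6 (dV w1) (dV w0) = 0 ∧ qq (dV w0) = 0 →
    ∃ i, u1 = act i 2 ∧ u2 = act i 4 ∧ w0 = act i 8 ∧ w1 = act i 16 ∧ w2 = act i 32 ∧ 1 = act i 1 := by
  decide +kernel

theorem exT {k : O6} (h0 : k.1 (ev 0) = ev 0) (h1 : k.1 (ev 1) ∈ L0) (h2 : k.1 (ev 2) ∈ LE) : ∃ i, k = T i := by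
  choose f hf using fun l => dV_bij.2 (k.1 (dV l))
  have b : ∀ x y, b6 (dV (f x)) (dV (f y)) = b6 (dV x) (dV y) := fun x y => by
    rw [hf, hf, ← p6_eq, ← p6_eq, OG.polar_app]
  have q : ∀ x, qq (dV (f x)) = qq (dV x) := fun x => by
    rw [hf]; exact (q6_eq _).symm.trans ((OG.map_app k _).trans (q6_eq _))
  have f1 : 1 = f 1 := dV_bij.1 (by rw [hf, ← e0, h0])
  have b1 : ∀ y, b6 (dV 1) (dV (f y)) = b6 (dV 1) (dV y) := fun y => by rw [← b 1 y, ← f1]
  obtain ⟨i, a1, a2, a3, a4, a5, a6⟩ := enumN (f 2) ((mL0 _).1 (by rwa [hf, ← e1])) (f 4) ((mLE _).1 (by rwa [hf, ← e2]))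
    (f 32) (by rw [b1, b, b, q]; decide) (f 16) (by rw [b1, b, b, b, q]; decide) (f 8)
    (by rw [b1, b, b, b, b, q]; decide)
  refine ⟨i, ext6 fun l hl => ?_⟩
  rw [← hf, T_app]
  simp only [bs, List.mem_cons, List.not_mem_nil, or_false] at hl
  rcases hl with rfl | rfl | rfl | rfl | rfl | rfl
  exacts [by rw [← f1, ← a6], by rw [a1], by rw [a2], by rw [a3], by rw [a4], by rw [a5]]

theorem T_mem (i : I) : T i ∈ T0 := by
  have : ∀ i, act i 1 = 1 ∧ ∀ l, (act i l < 8 ↔ l < 8) ∧ (act i l < 4 ↔ l < 4) := by decide +kernel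
  refine ⟨⟨allV fun l => ?_, allV fun l => ?_⟩, ?_⟩
  · rw [T_app, mLE, mLE]; exact ((this i).2 l).1
  · rw [T_app, mL0, mL0]; exact ((this i).2 l).2
  · rintro _ rfl; rw [e0]; exact T_fix.2 (this i).1

theorem ev_LE (i : Fin 3) : ev i ∈ LE := by revert i; unfold LE; decide
theorem ev0 : ev 0 ∈ L0 := by rw [e0, mL0]; decide
theorem ev1 : ev 1 ∈ L0 := by rw [e1, mL0]; decide

theorem memT {k : O6} (h : k ∈ T0) : ∃ i, k = T i := exT (h.2 _ rfl) ((h.1.2 _).2 ev1) ((h.1.1 _).2 (ev_LE 2))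
theorem allT {p : O6 → Prop} (h : ∀ i, p (T i)) (k : O6) (hk : k ∈ T0) : p k := by
  obtain ⟨i, rfl⟩ := memT hk; exact h i
theorem inT {k : O6} (h0 : k.1 (ev 0) = ev 0) (h1 : k.1 (ev 1) = ev 1) (h2 : k.1 (ev 2) ∈ LE) : k ∈ T0 := by
  obtain ⟨i, rfl⟩ := exT h0 (h1.symm ▸ ev1) h2; exact T_mem i

theorem ET : Es ≤ T0 := fun _ h => inT (h _ (ev_LE 0)) (h _ (ev_LE 1)) ((h _ (ev_LE 2)).symm ▸ ev_LE 2)
theorem FT : F0 ≤ T0 := fun _ h => inT (h.1 _ (by rw [e0, mLF]; decide)) (h.1 _ (by rw [e1, mLF]; decide))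
  ((h.2 _).2 (ev_LE 2))
theorem ET' : Es' ≤ T0 := fun k h => by
  refine inT (h _ ev0.2) (h _ ev1.2) ?_
  have : ∀ u, b6 (dV u) (dV 1) = 0 → b6 (dV u) (dV 2) = 0 → b6 (dV u) (dV 32) = 1 → qq (dV u) = 0 → u < 8 := by
    decide +kernel
  obtain ⟨u, hu⟩ := dV_bij.2 (k.1 (ev 2))
  have b : ∀ y : I, y.1 % 32 < 4 → b6 (dV u) (dV y) = b6 (dV 4) (dV y) := fun y hy => by
    rw [hu, ← h _ ((mLE' y).2 hy), ← p6_eq, OG.polar_app, p6_eq, h _ ((mLE' y).2 hy), e2]
  rw [← hu, mLE]
  refine this u (b 1 (by decide)) (b 2 (by decide)) (b 32 (by decide)) ?_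
  rw [hu]; exact (q6_eq _).symm.trans ((OG.map_app k _).trans ((q6_eq _).trans (by decide)))

theorem mFix {S : Set V6} {p : I → Prop} (h : ∀ l, dV l ∈ S ↔ p l) (i : I) :
    T i ∈ fixr q6 S ↔ ∀ l, p l → act i l = l :=
  ⟨fun k l hl => T_fix.1 (k _ ((h l).2 hl)), fun k => allV fun l hl => T_fix.2 (k l ((h l).1 hl))⟩
theorem mEs (i : I) : T i ∈ Es ↔ i.1 % 8 = 0 := (mFix mLE i).trans (by revert i; decide +kernel)
theorem mEs' (i : I) : T i ∈ Es' ↔ i.1 % 2 = 0 ∧ i < 16 := (mFix mLE' i).trans (by revert i; decide +kernel)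
theorem mF0 (i : I) : T i ∈ F0 ↔ i.1 % 2 = 0 ∧ i.1 / 2 % 4 = i.1 / 16 :=
  (and_iff_left (T_mem i).1.1).trans ((mFix mLF i).trans (by revert i; decide +kernel))

open Classical in
theorem cardT {K : Subgroup O6} (h : K ≤ T0) : Nat.card K = (Finset.univ.filter fun i => T i ∈ K).card := by
  rw [← Fintype.card_subtype, ← Nat.card_eq_fintype_card]
  refine (Nat.card_eq_of_bijective (fun i : {i // T i ∈ K} => (⟨T i, i.2⟩ : K))
    ⟨fun a b e => Subtype.ext (T_inj (congrArg Subtype.val e)), fun k => ?_⟩).symm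
  obtain ⟨i, e⟩ := memT (h k.2)
  exact ⟨⟨i, e ▸ k.2⟩, Subtype.ext e.symm⟩
theorem cardT_eq {K : Subgroup O6} (h : K ≤ T0) {p : I → Prop} [DecidablePred p] (e : ∀ i, T i ∈ K ↔ p i) :
    Nat.card K = (Finset.univ.filter p).card := by
  rw [cardT h]; congr 1; ext i; simp [e]
theorem cardT_le {K : Subgroup O6} (h : K ≤ T0) {p : I → Prop} [DecidablePred p] (e : ∀ i, T i ∈ K → p i) :
    Nat.card K ≤ (Finset.univ.filter p).card := by
  rw [cardT h]; exact Finset.card_le_card fun i hi => by simpa using e i (by simpa using hi)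
open Classical in
theorem cardV (W : Submodule F V6) : Nat.card W = (Finset.univ.filter fun i => dV i ∈ W).card := by
  rw [← Fintype.card_subtype, ← Nat.card_eq_fintype_card]
  refine (Nat.card_eq_of_bijective (fun i : {i // dV i ∈ W} => (⟨dV i, i.2⟩ : W))
    ⟨fun a b e => Subtype.ext (dV_bij.1 (congrArg Subtype.val e)), fun k => ?_⟩).symm
  obtain ⟨i, e⟩ := dV_bij.2 k
  exact ⟨⟨i, e ▸ k.2⟩, Subtype.ext e⟩

theorem ee_eq : ee = T 8 := OG.ext' fun v => by
  rw [ee_app]
  change _ = t0f (dB 8) v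
  ext (i | i) <;> fin_cases i <;> simp [t0f, mk6, ev, dB, bt, Nat.testBit] 

theorem ea_comm {X : Type*} [Group X] {K : Subgroup X} (h : EA K) {a b : X} (ha : a ∈ K) (hb : b ∈ K) :
    a * b = b * a := by
  rw [← inv_eq_of_mul_eq_one_right (h _ (mul_mem ha hb)), mul_inv_rev, inv_eq_of_mul_eq_one_right (h a ha),
    inv_eq_of_mul_eq_one_right (h b hb)]

theorem inJ {K : Subgroup O6} (h : K ≤ T0) (e : EA K) (c : 16 ≤ Nat.card K) (i : I) (hi : T i ∈ K) :
    i < 32 ∧ i.1 % 8 < 4 := by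
  have : ∀ i : I, ¬ (i < 32 ∧ i.1 % 8 < 4) → iv i →
    (Finset.univ.filter fun j => iv j ∧ ∀ l ∈ bs, act j (act i l) = act i (act j l)).card < 16 := by decide +kernel
  exact by_contra fun n => (this i n (T_sq.1 (e _ hi))).not_ge
    (c.trans (cardT_le h fun j hj => ⟨T_sq.1 (e _ hj), T_comm.1 (ea_comm e hj hi)⟩))

theorem cJ : (Finset.univ.filter fun i : I => i < 32 ∧ i.1 % 8 < 4).card = 16 := by decide +kernel

/-- the involutions `k` with `a ∈ [V, k]` -/
def Sa (a i : I) : Prop := Nat.testBit tS (Nat.add (Nat.mul 64 a.1) i.1) = true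

instance (a : I) : DecidablePred (Sa a) := fun _ => instDecidableEqBool _ _

theorem inSa {K : Subgroup O6} (e : EA K) {a : I} (h : ∀ k ∈ K, k ≠ 1 → ∃ v, dV a = v + k.1 v) (i : I)
    (hi : T i ∈ K) : Sa a i := by
  have s0 : ∀ a, Sa a 0 := by decide +kernel
  have s1 : ∀ i, iv i → ∀ l, Sa (xr l (act i l)) i := by decide +kernel
  by_cases h0 : i = 0
  · exact h0 ▸ s0 a
  obtain ⟨v, hv⟩ := h _ hi (mt T_one.1 h0)
  obtain ⟨l, rfl⟩ := dV_bij.2 v
  rw [T_app, xr_eq] at hv
  exact dV_bij.1 hv ▸ s1 i (T_sq.1 (e _ hi)) l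

theorem lz (K : Subgroup O6) (h : K ≤ T0) (e : EA K) (c : 8 ≤ Nat.card K) : ∃ u ∈ LE, u ≠ 0 ∧
    ∀ a, (∀ k ∈ K, k ≠ 1 → ∃ v, a = v + k.1 v) → a = 0 ∨ a = u := by
  have s1 : ∀ a, 8 ≤ (Finset.univ.filter (Sa a)).card → a < 4 := by decide +kernel
  have s2 : ∀ a < 4, ∀ b < 4, 8 ≤ (Finset.univ.filter fun i => Sa a i ∧ Sa b i).card → a = 0 ∨ b = 0 ∨ a = b := by
    decide +kernel
  by_cases k : ∃ u, u ≠ 0 ∧ ∀ k ∈ K, k ≠ 1 → ∃ v, u = v + k.1 v
  · obtain ⟨u, u0, hu⟩ := k
    obtain ⟨u, rfl⟩ := dV_bij.2 u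
    have u4 := s1 u (c.trans (cardT_le h (inSa e hu)))
    refine ⟨_, ((mL0 u).2 u4).1, u0, allV fun a ha => ?_⟩
    rcases s2 a (s1 a (c.trans (cardT_le h (inSa e ha)))) u u4
      (c.trans (cardT_le h fun i hi => ⟨inSa e ha i hi, inSa e hu i hi⟩)) with rfl | rfl | rfl
    exacts [.inl d0, absurd d0 u0, .inr rfl]
  · exact ⟨ev 0, ev_LE 0, by decide, fun a ha => .inl (by_contra fun a0 => k ⟨a, a0, ha⟩)⟩

theorem fix2 (K : Subgroup O6) (h : K ≤ T0) (e : EA K) (c : 4 ≤ Nat.card K) : Nat.card (Fx K) ≤ 8 := by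
  classical
  have s : ∀ a, iv a ∧ a ≠ 0 → ∀ b, iv b ∧ b ≠ 0 ∧ a ≠ b →
    (Finset.univ.filter fun l => act a l = l ∧ act b l = l).card ≤ 8 := by decide +kernel
  rw [cardT h] at c
  obtain ⟨a, ha, b, hb, ab⟩ := Finset.one_lt_card.1
    (show 1 < ((Finset.univ.filter fun i => T i ∈ K).erase 0).card by have := Finset.pred_card_le_card_erase (s := Finset.univ.filter fun i => T i ∈ K) (a := 0); omega)
  simp only [Finset.mem_erase, Finset.mem_filter, Finset.mem_univ, true_and] at ha hb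
  rw [cardV]
  refine le_trans (Finset.card_le_card fun l hl => ?_) (s a ⟨T_sq.1 (e _ ha.2), ha.1⟩ b ⟨T_sq.1 (e _ hb.2), hb.1, ab⟩)
  simp only [Finset.mem_filter, Finset.mem_univ, true_and] at hl ⊢
  exact ⟨T_fix.1 (hl _ ha.2), T_fix.1 (hl _ hb.2)⟩

theorem mFx {K : Subgroup O6} (h : K ≤ T0) {p : I → Prop} (e : ∀ i, T i ∈ K ↔ p i) (l : I) :
    dV l ∈ Fx K ↔ ∀ i, p i → act i l = l :=
  ⟨fun k i hi => T_fix.1 (k _ ((e i).2 hi)), fun k g hg =>
    allT (p := fun g => g ∈ K → g.1 (dV l) = dV l) (fun i hi => T_fix.2 (k i ((e i).1 hi))) g (h hg) hg⟩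

theorem allK {K : Subgroup O6} (h : K ≤ T0) {p : O6 → Prop} (e : ∀ i, T i ∈ K → p (T i)) : ∀ k ∈ K, p k :=
  fun k hk => allT (p := fun g => g ∈ K → p g) e k (h hk) hk

theorem nf_T (i : I) : nf (T i) = (Finset.univ.filter fun l => act i l = l).card := by
  rw [nf, cardV]; congr 1; ext l
  simp only [Finset.mem_filter, Finset.mem_univ, true_and, ← T_fix]
  exact ⟨fun h => h _ (mem_zpowers _), fun h k hk =>
    (zpowers_le.2 (show T i ∈ fixr q6 {dV l} from fun _ e => e ▸ h) hk) _ rfl⟩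

end FA

attribute [local instance 2000] FA.ftI FA.dAll FA.dEx in
open FA in
theorem f6a : F6a where
  enum := allT fun i => ⟨FA.dB i, fun _ => rfl⟩
  ex b := by obtain ⟨i, rfl⟩ := dB_bij.2 b; exact ⟨T i, T_mem i, fun _ => rfl⟩
  cT := (cardT_eq le_rfl (p := fun _ => True) fun i => iff_true_intro (T_mem i)).trans (by decide +kernel)
  ET := ET
  ET' := ET'
  FT := FT
  cE := (cardT_eq ET mEs).trans (by decide +kernel)
  cF0 := (cardT_eq FT mF0).trans (by decide +kernel)
  eaE := allK ET fun i hi => T_sq.2 (by have := (mEs i).1 hi; clear hi; revert i; decide +kernel)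
  eeE := by rw [ee_eq, mEs, mEs', mF0, Ne, T_one]; decide
  exE' := ⟨T 2, by rw [mEs', mEs]; decide⟩
  exE := ⟨T 16, by rw [mEs', mEs]; decide⟩
  fixE := allV fun l => by rw [mFx ET mEs, mLE]; revert l; decide +kernel
  quad := allK ET fun i hi => allV fun l => by
    have := (mEs i).1 hi
    rw [T_app, xr_eq, mLE]; clear hi; revert i l; decide +kernel
  zT := allT fun i => by
    have : ∀ i, (∀ j, ∀ l ∈ bs, act i (act j l) = act j (act i l)) ↔ i = 0 ∨ i = 8 := by decide +kernel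
    rw [ee_eq, T_one, T_inj.eq_iff, ← this]
    exact ⟨fun h j => T_comm.1 (h _ (T_mem j)), fun h => allT fun j => T_comm.2 (h j)⟩
  fix1 := allT fun i => by rw [T_sq, Ne, T_one, nf_T]; revert i; decide +kernel
  fix2 := fix2
  rk K h e := by
    by_contra c
    have := cardT_le h (inJ h e (by omega))
    rw [cJ] at this
    exact c this
  j16 K h e c := by
    classical
    refine ⟨T 16, ?_, by rw [mEs', mEs]; decide⟩
    have := Finset.eq_of_subset_of_card_le (s := Finset.univ.filter fun i => T i ∈ K)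
      (fun i hi => by simpa using inJ h e c.ge i (by simpa using hi)) (cJ.trans (c.symm.trans (cardT h))).le
    simpa using (Finset.ext_iff.1 this 16).2 (by decide)
  fixT := allV fun l => by
    rw [mFx le_rfl (p := fun _ => True) fun i => iff_true_intro (T_mem i), ← d0, e0, dV_bij.1.eq_iff, dV_bij.1.eq_iff]
    revert l; decide +kernel
  aE := allK ET fun i hi => allV fun l => by
    have := (mEs i).1 hi
    rw [T_app]; clear hi; revert i l; decide +kernel
  cF := ⟨T 18, (mF0 _).2 (by decide), dV 8, by rw [T_app]; decide +kernel⟩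
  lz := lz
  orbE := allV fun l hl => by
    rw [mLE] at hl
    rw [cardT_eq (inf_le_left.trans ET) (p := fun i => i.1 % 8 = 0 ∧ act i l = l) fun i =>
      and_congr (mEs i) (show T i ∈ fixr q6 {dV l} ↔ _ from
        ⟨fun h => T_fix.1 (h _ rfl), fun h _ e => e ▸ T_fix.2 h⟩)]
    revert l; decide +kernel

end CL.L10.R
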