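/-
Project L10 (S3320), job GM2: finite computations.
-/
import Cfsg.Agent.L10.DG
import Cfsg.Agent.L10.Mod3

set_option autoImplicit false

namespace CL.L10.R

open Cfsg Subgroup CL.Cls CL.Grp CL.Even QuadraticMap Matrix
open scoped MatrixGroups commutatorElement

namespace Gm2

instance decWV (a : Alt) : Decidable (WV a) := @Nat.decidableForallFin 5 _ fun _ => inferInstance

/-- the map described by `KF` for an involution `h` -/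
def kf (c h : Matrix (Fin 3) (Fin 3) F) (v : V6) : V6 :=
  mk6 (h *ᵥ (fun i => v (.inl i)) + c *ᵥ (hᵀ *ᵥ fun i => v (.inr i))) (hᵀ *ᵥ fun i => v (.inr i))

theorem kf_eq {c h : Matrix (Fin 3) (Fin 3) F} {k : O6} (hk : KF c h k) (h2 : h * h = 1) (v : V6) :
    k.1 v = kf c h v := by
  rw [kf, ← hk, mulVec_mulVec, ← transpose_mul, h2, transpose_one, one_mulVec]
  congr 1
  ext (i | i) <;> rfl

theorem eich_eq {e f : V6} (h : b6 e f = 0 ∧ e (.inl 0) * e (.inr 0) + e (.inl 1) * e (.inr 1) +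
    e (.inl 2) * e (.inr 2) = 0 ∧ f (.inl 0) * f (.inr 0) + f (.inl 1) * f (.inr 1) + f (.inl 2) * f (.inr 2) = 0)
    (v : V6) : (eich q6 e f).1 v = v + b6 f v • e - b6 e v • f := by
  rw [eich_app (by rw [q6_eq]; exact h.2.1) (by rw [p6_eq]; exact h.1), p6_eq, p6_eq, q6_eq, h.2.2, zero_mul,
    zero_smul, sub_zero]

theorem idx : (∀ i : Fin 5, (i.1 < 2 ∧ ∃ a, i = s2 a) ∨ (2 ≤ i.1 ∧ ∃ a, i = s3 a)) ∧ b22 (1 : SL5).1 = 1 ∧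
    b33 (1 : SL5).1 = 1 ∧ InP2 1 := by decide +kernel

theorem col : (∀ x y : V5, (wd x y).1 = (wd (e5 0) (e5 1)).1 → x 2 = 0 ∧ y 2 = 0) ∧
    (∀ x y : V5, x 2 = 0 → ∀ i : Fin 2, (wd x y).1 = (wd (e5 (s2 i)) (e5 2)).1 → x = e5 (s2 i)) ∧
    (∀ j y, (wd (e5 0) y).1 = (wd (e5 0) (e5 j)).1 → (wd (e5 1) y).1 = (wd (e5 1) (e5 j)).1 → y = e5 j) ∧
    ∀ i j, WV (wd (e5 (s2 i)) (e5 j)) := by decide +kernel

theorem sev : ∀ a b c : F, ![a, b, 0, 0, c, 0, 0, 0, 0, 0] = (0 : Fin 10 → F) ∨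
    ∃ g ∈ [1, nu 1 2, nu 0 2, tau 2 1, tau 2 0, tau 1 0 * nu 1 2, tau 2 0 * tau 2 1],
      altE (g • wd (e5 0) (e5 1)) = ![a, b, 0, 0, c, 0, 0, 0, 0, 0] := by decide +kernel

theorem tv : ∀ i j : Fin 3, i ≠ j → InP2 (tau (s3 i) (s3 j)) ∧
    b33 (tau (s3 i) (s3 j)).1 * b33 (tau (s3 i) (s3 j)).1 = 1 ∧ (1 : SL(2, F)).1 = b22 (tau (s3 i) (s3 j)).1 ∧
    (b6 (ev i) (fv j) = 0 ∧ ev i (.inl 0) * ev i (.inr 0) + ev i (.inl 1) * ev i (.inr 1) +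
      ev i (.inl 2) * ev i (.inr 2) = 0 ∧ fv j (.inl 0) * fv j (.inr 0) + fv j (.inl 1) * fv j (.inr 1) +
      fv j (.inl 2) * fv j (.inr 2) = 0) ∧
    ∀ v, v + b6 (fv j) v • ev i - b6 (ev i) v • fv j = kf (b33 (0 : Alt).1) (b33 (tau (s3 i) (s3 j)).1) v := by
  decide +kernel

theorem cst : (∀ v, v + v (.inr 1) • ev 0 + v (.inr 0) • ev 1 = kf (b33 (wd (e5 2) (e5 3)).1) (b33 (1 : SL5).1) v) ∧
    (InP2 dA ∧ b33 dA.1 * b33 dA.1 = 1 ∧ wD.1 = b22 dA.1 ∧ ∀ v, v = kf (b33 (0 : Alt).1) (b33 dA.1) v) ∧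
    (InP2 (tau 0 1) ∧ b33 (tau 0 1).1 * b33 (tau 0 1).1 = 1 ∧ ws.1 = b22 (tau 0 1).1 ∧
      ∀ v, v = kf (b33 (0 : Alt).1) (b33 (tau 0 1).1) v) ∧
    (dA * dA * dA).1 = 1 ∧ (tau 0 1 * tau 0 1).1 = 1 ∧ (tau 0 1 * dA * tau 0 1 * dA).1 = 1 ∧
    (nu 1 2 • wd (e5 0) (e5 1)).1 = (wd (e5 0) (e5 2)).1 ∧ (wd (e5 0) (e5 2)).1 ≠ (wd (e5 0) (e5 1)).1 := by
  decide +kernel

end Gm2

end CL.L10.R
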